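import Cfsg.Agent.Lib.FrobeniusCount
import Cfsg.Agent.PGroup.Basic
import Cfsg.Agent.PGroup.ClassTwo
import Cfsg.Agent.Lib.Element
import Cfsg.Agent.S0126

/-!
Miller's theorem on the number of elements of a given order in a group with a non-cyclic Sylow
subgroup for an odd prime.
-/

set_option autoImplicit false
set_option linter.style.haveILetI false

namespace Cfsg.Agent.OrderCount

open Subgroup
open scoped commutatorElement

variable {G : Type*} [Group G] [Finite G] {p : ℕ}

theorem pow_pred_dvd_totient (hp : p.Prime) (s : ℕ) : p ^ (s - 1) ∣ Nat.totient (p ^ s) := by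
  rcases Nat.eq_zero_or_pos s with rfl | hs
  · simp
  · rw [Nat.totient_prime_pow hp hs]; exact dvd_mul_right _ _

theorem totient_dvd_card_orderOf (k : ℕ) :
    Nat.totient k ∣ Nat.card {x : G // orderOf x = k} :=
  FrobeniusCount.totient_dvd_card (fun x => orderOf x = k)
    (fun x y h hx => by rw [← Nat.card_zpowers, ← h, Nat.card_zpowers, hx]) k
    (fun _ hx => hx ▸ dvd_refl k)

/-- Elements of order `k` in `Q` are counted by the cyclic subgroups of order `k` in `Q`. -/
theorem card_orderOf_eq_totient_mul (Q : Subgroup G) (k : ℕ) :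
    Nat.card {x : G // orderOf x = k ∧ x ∈ Q} =
      Nat.totient k * Nat.card {A : Subgroup G // IsCyclic A ∧ Nat.card A = k ∧ A ≤ Q} := by
  classical
  let f : {x : G // orderOf x = k ∧ x ∈ Q} →
      {A : Subgroup G // IsCyclic A ∧ Nat.card A = k ∧ A ≤ Q} := fun x =>
    ⟨zpowers x.1, inferInstance, by rw [Nat.card_zpowers, x.2.1], zpowers_le.2 x.2.2⟩
  have := Fintype.ofFinite {A : Subgroup G // IsCyclic A ∧ Nat.card A = k ∧ A ≤ Q}
  rw [← Nat.card_congr (Equiv.sigmaFiberEquiv f), Nat.card_sigma,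
    Finset.sum_congr rfl (g := fun _ => Nat.totient k), Finset.sum_const, Finset.card_univ,
    smul_eq_mul, Nat.card_eq_fintype_card (α := {A : Subgroup G // _}), mul_comm]
  intro D _
  haveI := D.2.1
  have := Fintype.ofFinite D.1
  have h1 : Nat.card {x : D.1 // orderOf x = Nat.card D.1} = Nat.totient (Nat.card D.1) := by
    rw [Nat.card_eq_fintype_card, Fintype.card_subtype,
      IsCyclic.card_orderOf_eq_totient (by rw [Nat.card_eq_fintype_card])]
  refine (?_ : _ = Nat.totient (Nat.card D.1)).trans (by rw [D.2.2.1])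
  rw [← h1, FrobeniusCount.card_orderOf_fiber]
  refine Nat.card_congr
    { toFun := fun x => ⟨x.1.1, congrArg Subtype.val x.2,
        (congrArg Subtype.val x.2) ▸ mem_zpowers x.1.1, x.1.2.1.trans D.2.2.1.symm⟩
      invFun := fun x => ⟨⟨x.1, x.2.2.2.trans D.2.2.1, D.2.2.2 x.2.2.1⟩, Subtype.ext x.2.1⟩
      left_inv := fun _ => rfl
      right_inv := fun _ => rfl }

/-- Miller's count in a non-cyclic `p`-group, `p` odd. -/
theorem pGroup_dvd [Fact p.Prime] (hp : p ≠ 2) (hG : IsPGroup p G) (hnc : ¬ IsCyclic G)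
    {s : ℕ} (hs : 1 < s) : p ^ s ∣ Nat.card {x : G // orderOf x = p ^ s} := by
  classical
  have hpp : p.Prime := Fact.out
  obtain ⟨E, hEn, ⟨hEc, hEe⟩, hEcard⟩ := S0126.result hp hG hnc
  haveI := hEn
  have hEne : E ≠ ⊥ := fun h => by
    rw [h, card_bot] at hEcard
    exact (Nat.one_lt_pow two_ne_zero hpp.one_lt).ne hEcard
  -- commutators of `E` with `G` are central
  have hcen : ⁅E, (⊤ : Subgroup G)⁆ ≤ center G := by
    have hlt := PGroup.commutator_top_lt hG hEne
    have hd := card_dvd_of_le hlt.le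
    rw [hEcard, Nat.dvd_prime_pow hpp] at hd
    obtain ⟨i, hi, hi'⟩ := hd
    have hi2 : i ≠ 2 := fun h => hlt.ne (eq_of_le_of_card_ge hlt.le (by rw [hEcard, hi', h]))
    rcases (show i = 0 ∨ i = 1 by omega) with rfl | rfl
    · rw [pow_zero, card_eq_one] at hi'
      rw [hi']; exact bot_le
    · rw [pow_one] at hi'
      exact PGroup.le_center_of_card_eq hG hi'
  have hpow : ∀ x e : G, e ∈ E → (x * e) ^ p = x ^ p := by
    intro x e he
    have hc : ⁅e, x⁆ ∈ ⁅E, (⊤ : Subgroup G)⁆ := commutator_mem_commutator he (mem_top x)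
    rw [PGroup.mul_pow_of_odd (hpp.odd_of_ne_two hp) (hcen hc)
      (hEe _ (commutator_le_left E ⊤ hc)), hEe e he, mul_one]
  have hord : ∀ x e : G, e ∈ E → orderOf x = p ^ s → orderOf (x * e) = p ^ s := by
    intro x e he hx
    obtain ⟨t, rfl⟩ : ∃ t, s = t + 1 := ⟨s - 1, by omega⟩
    refine orderOf_eq_prime_pow (fun h => ?_) ?_
    · obtain ⟨u, rfl⟩ : ∃ u, t = u + 1 := ⟨t - 1, by omega⟩
      rw [pow_succ', pow_mul, hpow x e he, ← pow_mul, ← pow_succ'] at h
      have := Nat.le_of_dvd (pow_pos hpp.pos _) (hx ▸ orderOf_dvd_of_pow_eq_one h)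
      exact absurd this (not_le.2 (Nat.pow_lt_pow_right hpp.one_lt (by omega)))
    · rw [pow_succ', pow_mul, hpow x e he, ← pow_mul, ← pow_succ', ← hx, pow_orderOf_eq_one]
  set Z : Set (G ⧸ E) := {q | ∃ x : G, (x : G ⧸ E) = q ∧ orderOf x = p ^ s} with hZ
  have hpre : Nat.card {x : G // orderOf x = p ^ s} = Nat.card E * Nat.card Z := by
    rw [← Nat.card_prod, ← Nat.card_congr (QuotientGroup.preimageMkEquivSubgroupProdSet E Z)]
    refine Nat.card_congr (Equiv.subtypeEquivRight fun x => ⟨fun h => ⟨x, rfl, h⟩, ?_⟩)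
    rintro ⟨y, hy, hyo⟩
    have he : y⁻¹ * x ∈ E := QuotientGroup.eq.1 hy
    have := hord y _ he hyo
    simpa using this
  have hdvd : Nat.totient (p ^ (s - 1)) ∣ Nat.card Z := by
    refine FrobeniusCount.totient_dvd_card (fun q : G ⧸ E => q ∈ Z) ?_ _ ?_
    · rintro q r hqr ⟨x, rfl, hx⟩
      obtain ⟨i, hi⟩ : r ∈ zpowers (x : G ⧸ E) := hqr ▸ mem_zpowers r
      obtain ⟨j, hj⟩ : (x : G ⧸ E) ∈ zpowers r := hqr ▸ mem_zpowers _
      refine ⟨x ^ i, by simpa using hi, ?_⟩
      -- `i` is prime to `p`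
      have hij : ((x : G ⧸ E)) ^ (i * j - 1) = 1 := by
        rw [zpow_sub, zpow_one, mul_inv_eq_one, zpow_mul]
        rw [show (x : G ⧸ E) ^ i = r from hi]
        exact hj
      have hne : (x : G ⧸ E) ^ (p : ℕ) ≠ 1 ∨ ¬ (p : ℤ) ∣ i := by
        by_contra! hc
        obtain ⟨k, rfl⟩ := hc.2
        have h2 : r = 1 := by
          rw [← hi]
          simp [zpow_mul, hc.1]
        have h3 : (x : G ⧸ E) = 1 := by rw [← hj, h2]; simp
        rw [QuotientGroup.eq_one_iff] at h3
        have h4 := orderOf_dvd_of_pow_eq_one (hEe x h3)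
        rw [hx] at h4
        have := Nat.le_of_dvd hpp.pos h4
        exact absurd this (not_le.2 (by
          calc p = p ^ 1 := (pow_one p).symm
            _ < p ^ s := Nat.pow_lt_pow_right hpp.one_lt hs))
      have hpi : ¬ (p : ℤ) ∣ i := by
        rcases hne with h | h
        · intro hd
          obtain ⟨k, rfl⟩ := hd
          refine h ?_
          -- `x ^ (p (k j)) = x` forces `x = 1` in a `p`-group
          have hq : IsPGroup p (G ⧸ E) := hG.to_quotient E
          obtain ⟨a, ha⟩ := IsPGroup.iff_orderOf.1 hq (x : G ⧸ E)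
          rw [← orderOf_dvd_iff_zpow_eq_one, ha] at hij
          rcases Nat.eq_zero_or_pos a with rfl | hapos
          · rw [pow_zero, orderOf_eq_one_iff] at ha
            simp [ha]
          · exfalso
            have hp1 : (p : ℤ) ∣ (p : ℤ) * k * j - 1 :=
              (by exact_mod_cast dvd_pow_self p hapos.ne' : (p : ℤ) ∣ ((p ^ a : ℕ) : ℤ)).trans hij
            have hp2 : (p : ℤ) ∣ 1 := by
              simpa using (dvd_sub (dvd_mul_of_dvd_left (dvd_mul_right (p : ℤ) k) j) hp1)
            have := Int.le_of_dvd one_pos hp2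
            have := hpp.one_lt
            omega
        · exact h
      have hcop : Nat.Coprime (orderOf x) i.natAbs := by
        rw [hx]
        exact Nat.Coprime.pow_left _ (hpp.coprime_iff_not_dvd.2 fun h => hpi
          (Int.natCast_dvd.2 h))
      rcases Int.natAbs_eq i with h | h <;> rw [h]
      · rw [zpow_natCast, hcop.orderOf_pow, hx]
      · rw [zpow_neg, orderOf_inv, zpow_natCast, hcop.orderOf_pow, hx]
    · rintro q ⟨x, rfl, hx⟩
      obtain ⟨a, ha⟩ := IsPGroup.iff_orderOf.1 (hG.to_quotient E) (x : G ⧸ E)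
      rw [ha]
      refine pow_dvd_pow p ?_
      by_contra! hlt
      have h1 : x ^ (p ^ a) ∈ E := by
        rw [← QuotientGroup.eq_one_iff, QuotientGroup.mk_pow, ← ha, pow_orderOf_eq_one]
      have h2 := hEe _ h1
      rw [← pow_mul, ← pow_succ] at h2
      have := Nat.le_of_dvd (pow_pos hpp.pos _) (hx ▸ orderOf_dvd_of_pow_eq_one h2)
      exact absurd this (not_le.2 (Nat.pow_lt_pow_right hpp.one_lt (by omega)))
  rw [hpre, hEcard]
  have h2 : p ^ (s - 1 - 1) ∣ Nat.card Z := (pow_pred_dvd_totient hpp _).trans hdvd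
  have := mul_dvd_mul_left (p ^ 2) h2
  rwa [← pow_add, show 2 + (s - 1 - 1) = s by omega] at this

/-- Conjugation action of a subgroup on the cyclic subgroups of order `k` inside an overgroup. -/
@[reducible] def cycAction (P Q : Subgroup G) (hPQ : P ≤ Q) (k : ℕ) :
    MulAction P {A : Subgroup G // IsCyclic A ∧ Nat.card A = k ∧ A ≤ Q} where
  smul g A := ⟨A.1.map (MulAut.conj (g : G)).toMonoidHom, by
    refine ⟨?_, ?_, ?_⟩
    · haveI := A.2.1
      exact (A.1.equivMapOfInjective _ (MulEquiv.injective _)).isCyclic.1 inferInstance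
    · rw [card_map_of_injective (MulEquiv.injective _)]; exact A.2.2.1
    · rintro _ ⟨a, ha, rfl⟩
      exact mul_mem (mul_mem (hPQ g.2) (A.2.2.2 ha)) (inv_mem (hPQ g.2))⟩
  one_smul A := Subtype.ext (by
    show A.1.map (MulAut.conj ((1 : P) : G)).toMonoidHom = A.1
    ext; simp)
  mul_smul g h A := Subtype.ext (by
    show A.1.map (MulAut.conj ((g * h : P) : G)).toMonoidHom =
      (A.1.map (MulAut.conj (h : G)).toMonoidHom).map (MulAut.conj (g : G)).toMonoidHom
    rw [map_map]; congr 1; ext x; simp [mul_assoc])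

/-- Miller's count in a group with a non-cyclic Sylow `p`-subgroup, `p` odd. -/
theorem sylow_dvd [Fact p.Prime] (hp : p ≠ 2) (P : Sylow p G)
    (hnc : ¬ IsCyclic (P : Subgroup G)) {s : ℕ} (hs : 1 < s) :
    p ^ s ∣ Nat.card {x : G // orderOf x = p ^ s} := by
  classical
  have hpp : p.Prime := Fact.out
  let X (Q : Subgroup G) := {A : Subgroup G // IsCyclic A ∧ Nat.card A = p ^ s ∧ A ≤ Q}
  have hPcount : p ∣ Nat.card (X P) := by
    have h1 := pGroup_dvd hp P.2 hnc hs
    have h2 : Nat.card {x : (P : Subgroup G) // orderOf x = p ^ s} =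
        Nat.card {x : G // orderOf x = p ^ s ∧ x ∈ (P : Subgroup G)} :=
      Nat.card_congr
        { toFun := fun x => ⟨x.1.1, (Subgroup.orderOf_coe x.1).trans x.2, x.1.2⟩
          invFun := fun x => ⟨⟨x.1, x.2.2⟩, (Subgroup.orderOf_mk _ _).trans x.2.1⟩
          left_inv := fun _ => rfl
          right_inv := fun _ => rfl }
    rw [h2, card_orderOf_eq_totient_mul, Nat.totient_prime_pow hpp (by omega), mul_assoc] at h1
    have h3 : p ^ (s - 1) * p ∣ p ^ (s - 1) * ((p - 1) * Nat.card (X P)) := by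
      rw [← pow_succ, show s - 1 + 1 = s by omega]; exact h1
    refine (Nat.Coprime.dvd_of_dvd_mul_left ?_ (Nat.dvd_of_mul_dvd_mul_left (pow_pos hpp.pos _) h3))
    exact hpp.coprime_iff_not_dvd.2 fun h => by
      have := Nat.le_of_dvd (by have := hpp.one_lt; omega) h
      have := hpp.one_lt
      omega
  letI aP := cycAction (P : Subgroup G) P le_rfl (p ^ s)
  letI aT := cycAction (P : Subgroup G) ⊤ le_top (p ^ s)
  have hT := P.2.card_modEq_card_fixedPoints (X ⊤)
  have hP := P.2.card_modEq_card_fixedPoints (X P)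
  have hfix : Nat.card (MulAction.fixedPoints (P : Subgroup G) (X ⊤)) =
      Nat.card (MulAction.fixedPoints (P : Subgroup G) (X P)) := by
    refine Nat.card_congr
      { toFun := fun A => ⟨⟨A.1.1, A.1.2.1, A.1.2.2.1, ?_⟩, fun g => Subtype.ext ?_⟩
        invFun := fun A => ⟨⟨A.1.1, A.1.2.1, A.1.2.2.1, le_top⟩, fun g => Subtype.ext ?_⟩
        left_inv := fun _ => rfl
        right_inv := fun _ => rfl }
    · have hn : (P : Subgroup G) ≤ normalizer (A.1.1 : Set G) := fun g hg => by
        rw [mem_normalizer_iff_map_conj_eq]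
        exact congrArg Subtype.val (A.2 ⟨g, hg⟩)
      have hAp : IsPGroup p A.1.1 := IsPGroup.of_card A.1.2.2.1
      have h := P.3 (P.2.to_sup_of_normal_right' hAp hn) le_sup_left
      exact le_sup_right.trans_eq h
    · have h := congrArg Subtype.val (A.2 g)
      exact h
    · have h := congrArg Subtype.val (A.2 g)
      exact h
  have hT' : p ∣ Nat.card (X ⊤) := by
    have : Nat.card (X ⊤) ≡ Nat.card (X P) [MOD p] := hT.trans (hfix ▸ hP.symm)
    exact Nat.modEq_zero_iff_dvd.1 (this.trans (Nat.modEq_zero_iff_dvd.2 hPcount))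
  have h4 := card_orderOf_eq_totient_mul (⊤ : Subgroup G) (p ^ s)
  rw [Nat.card_congr (Equiv.subtypeEquivRight (q := fun x : G => orderOf x = p ^ s)
    fun x => ⟨fun h => h.1, fun h => ⟨h, mem_top x⟩⟩)] at h4
  rw [h4]
  have := mul_dvd_mul (pow_pred_dvd_totient hpp s) hT'
  rwa [← pow_succ, show s - 1 + 1 = s by omega] at this

/-- Elements of order `p ^ s * m` are pairs of commuting elements of orders `p ^ s` and `m`. -/
theorem card_eq_sum (hp : p.Prime) {s m : ℕ} (hm : Nat.Coprime p m)
    [Fintype {b : G // orderOf b = m}] :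
    Nat.card {g : G // orderOf g = p ^ s * m} =
      ∑ b : {b : G // orderOf b = m}, Nat.card {a : G // orderOf a = p ^ s ∧ Commute a b.1} := by
  classical
  rw [← Nat.card_sigma]
  symm
  refine Nat.card_congr (Equiv.ofBijective
    (fun y : Σ b : {b : G // orderOf b = m}, {a : G // orderOf a = p ^ s ∧ Commute a b.1} =>
      (⟨y.2.1 * y.1.1, by
        rw [y.2.2.2.orderOf_mul_eq_mul_orderOf_of_coprime (by
          rw [y.1.2, y.2.2.1]; exact hm.pow_left s), y.1.2, y.2.2.1]⟩ :
        {g : G // orderOf g = p ^ s * m})) ⟨?_, ?_⟩)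
  · rintro ⟨⟨b, hb⟩, a, ha, hab⟩ ⟨⟨b', hb'⟩, a', ha', hab'⟩ h
    have h' : a * b = a' * b' := congrArg Subtype.val h
    obtain ⟨e, he1, he2⟩ := Nat.chineseRemainder (hm.pow_left s) 1 0
    have key : ∀ u v : G, orderOf u = p ^ s → orderOf v = m → Commute u v → (u * v) ^ e = u := by
      intro u v hu hv huv
      rw [huv.mul_pow, orderOf_dvd_iff_pow_eq_one.1 (hv.symm ▸ Nat.modEq_zero_iff_dvd.1 he2 : orderOf v ∣ e), mul_one]
      conv_rhs => rw [← pow_one u]
      exact pow_eq_pow_iff_modEq.2 (by rw [hu]; exact he1)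
    have haa : a = a' := by rw [← key a b ha hb hab, h', key a' b' ha' hb' hab']
    subst haa
    have hbb := mul_left_cancel h'
    subst hbb
    rfl
  · rintro ⟨g, hg⟩
    have hg0 : orderOf g ≠ 0 := (orderOf_pos g).ne'
    obtain ⟨h1, h2⟩ := Element.orderOf_pPart hp g hg0
    have hm0 : m ≠ 0 := by rintro rfl; simp [hg] at hg0
    have hnd : ¬ p ∣ m := hp.coprime_iff_not_dvd.1 hm
    have hfac : (orderOf g).factorization p = s := by
      rw [hg, Nat.factorization_mul (pow_ne_zero _ hp.ne_zero) hm0, Finsupp.add_apply,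
        hp.factorization_pow, Finsupp.single_eq_same, Nat.factorization_eq_zero_of_not_dvd hnd,
        add_zero]
    rw [hfac] at h1 h2
    rw [hg, Nat.mul_div_cancel_left _ (pow_pos hp.pos _)] at h2
    exact ⟨⟨⟨Element.pComplPart p g, h2⟩, Element.pPart p g, h1,
      Element.commute_pPart_pComplPart p g⟩, Subtype.ext (Element.pPart_mul_pComplPart p g)⟩

/-- Miller's theorem for the orders `p ^ s * m`. -/
theorem miller [Fact p.Prime] (hp : p ≠ 2) (P : Sylow p G) (hnc : ¬ IsCyclic (P : Subgroup G))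
    {s m : ℕ} (hs : 1 < s) (hm : Nat.Coprime p m) :
    p ^ s ∣ Nat.card {g : G // orderOf g = p ^ s * m} := by
  classical
  have hpp : p.Prime := Fact.out
  let B := {b : G // orderOf b = m}
  have := Fintype.ofFinite B
  let f : B → ℕ := fun b => Nat.card {a : G // orderOf a = p ^ s ∧ Commute a b.1}
  rw [card_eq_sum hpp hm]
  have hC : ∀ b : B, f b =
      Nat.card {a : centralizer ({b.1} : Set G) // orderOf a = p ^ s} := fun b =>
    Nat.card_congr
      { toFun := fun a => ⟨⟨a.1, mem_centralizer_singleton_iff.2 a.2.2.eq⟩,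
          (Subgroup.orderOf_mk _ _).trans a.2.1⟩
        invFun := fun a => ⟨a.1.1, (Subgroup.orderOf_coe a.1).trans a.2,
          mem_centralizer_singleton_iff.1 a.1.2⟩
        left_inv := fun _ => rfl
        right_inv := fun _ => rfl }
  letI act : MulAction (P : Subgroup G) B :=
    { smul := fun g b => ⟨MulAut.conj (g : G) b.1, by
        rw [← MulEquiv.coe_toMonoidHom, orderOf_injective _ (MulEquiv.injective _), b.2]⟩
      one_smul := fun b => Subtype.ext (by
        show MulAut.conj ((1 : (P : Subgroup G)) : G) b.1 = b.1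
        simp)
      mul_smul := fun g h b => Subtype.ext (by
        show MulAut.conj ((g * h : (P : Subgroup G)) : G) b.1 =
          MulAut.conj (g : G) (MulAut.conj (h : G) b.1)
        simp [mul_assoc]) }
  have hinv : ∀ (g : (P : Subgroup G)) (b : B), f (g • b) = f b := by
    intro g b
    symm
    refine Nat.card_congr ((MulAut.conj (g : G)).toEquiv.subtypeEquiv fun a => ?_)
    refine and_congr (iff_of_eq ?_) ?_
    · show (orderOf a = p ^ s) = (orderOf (MulAut.conj (g : G) a) = p ^ s)
      rw [← MulEquiv.coe_toMonoidHom, orderOf_injective _ (MulEquiv.injective _)]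
    · exact (commute_map_iff (MulEquiv.injective (MulAut.conj (g : G)))).symm
  let π : B → Quotient (MulAction.orbitRel (P : Subgroup G) B) := Quotient.mk''
  have := Fintype.ofFinite (Quotient (MulAction.orbitRel (P : Subgroup G) B))
  show p ^ s ∣ ∑ b, f b
  rw [← Finset.sum_fiberwise Finset.univ π f]
  refine Finset.dvd_sum fun ω _ => ?_
  induction ω using Quotient.inductionOn' with
  | h b₀ =>
  have hconst : ∀ b ∈ Finset.univ.filter (fun b => π b = Quotient.mk'' b₀), f b = f b₀ := by
    intro b hb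
    obtain ⟨g, rfl⟩ := MulAction.orbitRel_apply.1 (Quotient.eq''.1 (Finset.mem_filter.1 hb).2)
    exact hinv g b₀
  rw [Finset.sum_const_nat hconst]
  have horb : (Finset.univ.filter (fun b => π b = Quotient.mk'' b₀)).card =
      Nat.card (MulAction.orbit (P : Subgroup G) b₀) := by
    rw [← Fintype.card_subtype, ← Nat.card_eq_fintype_card]
    exact Nat.card_congr (Equiv.subtypeEquivRight fun b =>
      Quotient.eq''.trans MulAction.orbitRel_apply)
  rw [horb]
  have hbase : p ^ (s - 1) ∣ f b₀ := by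
    rw [hC]
    exact (pow_pred_dvd_totient hpp s).trans (totient_dvd_card_orderOf _)
  obtain ⟨k, hk⟩ := P.2.card_orbit b₀
  rcases Nat.eq_zero_or_pos k with rfl | hk0
  · rw [hk, pow_zero, one_mul, hC]
    have hle : (P : Subgroup G) ≤ centralizer ({b₀.1} : Set G) := by
      intro g hg
      have hsing : Subsingleton (MulAction.orbit (P : Subgroup G) b₀) :=
        (Nat.card_eq_one_iff_unique.1 (by simpa using hk)).1
      have h1 := congrArg Subtype.val (congrArg Subtype.val (Subsingleton.elim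
        (⟨(⟨g, hg⟩ : (P : Subgroup G)) • b₀, MulAction.mem_orbit b₀ _⟩ :
          MulAction.orbit (P : Subgroup G) b₀) ⟨b₀, MulAction.mem_orbit_self b₀⟩))
      change g * b₀.1 * g⁻¹ = b₀.1 at h1
      exact mem_centralizer_singleton_iff.2 (mul_inv_eq_iff_eq_mul.1 h1)
    refine sylow_dvd hp (P.subtype hle) (fun h => hnc ?_) hs
    rw [Sylow.coe_subtype] at h
    exact (subgroupOfEquivOfLe hle).isCyclic.1 h
  · rw [hk]
    have := mul_dvd_mul (dvd_pow_self p hk0.ne') hbase
    rwa [← pow_succ', show s - 1 + 1 = s by omega] at this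

end Cfsg.Agent.OrderCount
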